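import Cfsg.Agent.TO.Asm
import Cfsg.Agent.TO.X.Rows
import Cfsg.Agent.TO.X.Mult
import Cfsg.Agent.TO.SM.All
import Cfsg.Agent.TO.DC.Lie
import Cfsg.Agent.TO.DC.SzRee
import Cfsg.Agent.TO.FO.Rows
import Cfsg.Agent.TO.LU.Main
import Cfsg.Agent.TO.S4.Main
import Cfsg.Agent.TO.L2.Main
import Cfsg.Agent.TO.U2.Main
import Cfsg.Agent.TO.D4A.Main
import Cfsg.Agent.TO.D4B.Main

/-!
# S4817: what is left (helper54)
-/

set_option autoImplicit false

namespace Cfsg.Agent.TO.Fin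

open Cfsg Cfsg.Agent.TO.X

/-- the open boxes -/
structure Left : Prop where
  x3 : Exc 3
  x5 : Exc 5
  x7 : Exc 7
  x11 : ∀ p, p.Prime → 11 ≤ p → Exc p
  g2 : RowFor (fun p S _ => ∃ (F : Type) (_ : Field F) (_ : Fintype F), (p : F) ≠ 0 ∧
    3 ≤ Fintype.card F ∧ Nonempty (S ≃* Lie.chevG2.group F))
  td4 : RowFor (fun p S _ => ∃ (K : Type) (_ : Field K) (_ : Fintype K) (q : ℕ), (p : K) ≠ 0 ∧
    IsPrimePow q ∧ Fintype.card K = q ^ 3 ∧ Nonempty (S ≃* Lie.twistedD4 K q))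
  tf4 : RowFor (fun _ S _ => Lie.Iso2F4 S)

theorem Left.rows (h : Left) : Rows :=
  have k := five h.x3 h.x5 h.x7 h.x11
  { alt := SM.rowAlt blk (DC.rowLie blk)
    lie := DC.rowLie blk
    psl := rowPsl blk (boxL2 blk)
    psp := FO.rowPsp blk (S4.boxS4 blk)
    psu := rowPsu blk (U2.boxU2 blk)
    oodd := FO.rowOodd blk
    oplus := FO.rowOplus blk (boxD4A blk) (D4B.boxD4B blk) (D4B.boxD4C blk)
    ominus := FO.rowOminus blk
    g2 := h.g2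
    f4 := k.f4
    e6 := k.e6
    e7 := k.e7
    e8 := k.e8
    te6 := k.te6
    td4 := h.td4
    sz := DC.rowSz blk
    ree := DC.rowRee blk
    tf4 := h.tf4
    tits := SM.rowTits blk
    spor := SM.rowSpor blk }

universe u

/-- **the statement from the open boxes and the classification** -/
theorem Left.final (h : Left) (cfsg : ∀ (S : Type) [Group S] [Finite S] [IsSimpleGroup S], IsKnownSimple' S)
    {S : Type u} [Group S] [Finite S] (hq : IsQuasisimple S) (p : ℕ) [Fact p.Prime] (hp : p ≠ 2) (M : Ideal AlgInt)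
    (hM : IsPModular p M) (b : Set (IrrCharacter S)) (hb : IsPBlock M b) (D : Subgroup S)
    (hD : IsDefectGroup p M b D) (hnc : ¬ IsCyclic D) :
    (∃ χ₁ ∈ b, ∃ χ₂ ∈ b, ∃ χ₃ ∈ b,
        (∀ α : S ≃* S, (fun s => (χ₂ : S → ℂ) (α s)) ≠ (χ₁ : S → ℂ)) ∧
        (∀ α : S ≃* S, (fun s => (χ₃ : S → ℂ) (α s)) ≠ (χ₁ : S → ℂ)) ∧
        (∀ α : S ≃* S, (fun s => (χ₃ : S → ℂ) (α s)) ≠ (χ₂ : S → ℂ))) ∨
      (∀ χ ∈ b, ∀ ψ ∈ b, charDegree (χ : S → ℂ) = charDegree (ψ : S → ℂ)) :=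
  h.rows.final blk.sub blk.can0 blk.can2 cfsg hq p hp M hM b hb D hD hnc

end Cfsg.Agent.TO.Fin
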